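import Groth.Agent.ResProp.EF.K396.Terms
import Groth.Agent.ResProp.EF.K980.Nodes

/-!
# (U1): `OpCpx.Amp` ⟹ the numerical fields `dd, bdd, fin, tor, top` of `Arch.KernelDatum`

`Amp.tor_pi`, `Amp.top_pi` : for the complex `n ↦ (I → X.deg n)`.
`kernelDatum_of` : a complex of `SObj` whose terms on the chart are `I → X.deg n`, all small, gives a `KernelDatum`.
-/

set_option autoImplicit false

universe u v

open CategoryTheory CategoryTheory.Limits HomologicalComplex TensorProduct Opposite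

noncomputable section

namespace Groth.Agent.ResProp.EF.K396

open Groth.Agent.PerfB.RingKFlat K294 K980 PiTwist K784.BC K784.PM K741.RP EF56 Grp Arch

section

variable {R : Type u} [CommRing R] (X : OpCpx.{u} R)

theorem mem_deg {n : ℤ} {v : X.K} : v ∈ X.deg n ↔ X.prz n v = v := by
  constructor
  · rintro ⟨w, rfl⟩
    rcases pz_cases X n with ⟨i, rfl⟩ | h
    · rw [X.prz_neg]
      exact LinearMap.congr_fun (X.pr_idem i) w
    · rw [X.prz_of_not n h]
      rfl
  · intro h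
    exact ⟨v, h⟩

theorem subsingleton_deg {n : ℤ} (h : n < -X.e ∨ 0 < n) : Subsingleton (X.deg n) := by
  refine ⟨fun v w => Subtype.ext ?_⟩
  rw [← (mem_deg X).1 v.2, ← (mem_deg X).1 w.2, X.prz_of_not n h]
  rfl

instance finite_deg (n : ℤ) : Module.Finite X.Q (X.deg n) := by
  have := X.finK
  rw [OpCpx.deg]
  infer_instance

/-- the differential of `n ↦ (I → X.deg n)` -/
def dI (I : Type) (n : ℤ) : (I → X.deg n) →ₗ[R] (I → X.deg (n + 1)) := ((X.dn n).restrictScalars R).compLeft I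

theorem dI_apply (I : Type) (n : ℤ) (v : I → X.deg n) (i : I) : dI X I n v i = X.dn n (v i) := rfl

theorem dI_dI (I : Type) (n : ℤ) (v : I → X.deg n) : dI X I (n + 1) (dI X I n v) = 0 :=
  funext fun i => X.dn_dn n (v i)

variable {X}

/-- `Amp.tor` for the complex `n ↦ (I → X.deg n)` -/
theorem tor_pi (h : X.Amp) (I : Type) [Fintype I] [DecidableEq I] :
    TorGE (-(X.e : ℤ)) (cx (fun n => I → X.deg n) (dI X I) (dI_dI X I)) :=
  torGE_pi I (fun n => X.deg n) (fun n => (X.dn n).restrictScalars R) (fun n v => X.dn_dn n v) h.tor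

/-- `κ(x) ⊗ d_(-1)` is not onto, for `x` in the image of `Spec D` -/
theorem top_deg (h : X.Amp) (x : PrimeSpectrum R) (y : PrimeSpectrum X.D)
    (hy : PrimeSpectrum.comap (algebraMap R X.D) y = x) :
    ¬ Function.Surjective (LinearMap.lTensor x.asIdeal.ResidueField ((X.dn (-1)).restrictScalars R)) := by
  intro hs
  obtain ⟨w, hw⟩ := h.aug_surj 1
  let a0 : X.deg (-1 + 1) →ₗ[R] X.D := h.aug ∘ₗ ((X.deg (-1 + 1)).subtype.restrictScalars R)
  have h1 : a0 ∘ₗ (X.dn (-1)).restrictScalars R = 0 := LinearMap.ext fun w => h.aug_d w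
  have h2 : LinearMap.lTensor x.asIdeal.ResidueField a0 = 0 := by
    have h3 : LinearMap.lTensor x.asIdeal.ResidueField a0 ∘ₗ
        LinearMap.lTensor x.asIdeal.ResidueField ((X.dn (-1)).restrictScalars R) = 0 := by
      rw [← LinearMap.lTensor_comp, h1, LinearMap.lTensor_zero]
    refine LinearMap.ext fun z => ?_
    obtain ⟨z, rfl⟩ := hs z
    exact LinearMap.congr_fun h3 z
  have hv0 : X.pr 0 w ∈ X.deg (-1 + 1) := by
    have h5 : (-1 + 1 : ℤ) = -(((0 : Fin (X.e + 1)).1 : ℕ) : ℤ) := by simp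
    rw [h5]
    exact ⟨w, by rw [X.prz_neg]⟩
  have h4 := LinearMap.congr_fun h2 ((1 : x.asIdeal.ResidueField) ⊗ₜ[R] (⟨X.pr 0 w, hv0⟩ : X.deg (-1 + 1)))
  rw [LinearMap.lTensor_tmul] at h4
  have h5 : a0 ⟨X.pr 0 w, hv0⟩ = 1 := (h.aug_pr w).trans hw
  rw [h5] at h4
  exact one_tmul_one_ne_zero x y hy h4

theorem top_pi (h : X.Amp) (I : Type) [DecidableEq I] [Nonempty I] (x : PrimeSpectrum R) (y : PrimeSpectrum X.D)
    (hy : PrimeSpectrum.comap (algebraMap R X.D) y = x) :
    ¬ Function.Surjective (LinearMap.lTensor x.asIdeal.ResidueField (dI X I (-1))) :=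
  not_surjective_pi _ (top_deg h x y hy)

end

theorem comap_algEquiv {R D D' : Type*} [CommRing R] [CommRing D] [CommRing D'] [Algebra R D] [Algebra R D']
    (f : D ≃ₐ[R] D') (y : PrimeSpectrum D') :
    PrimeSpectrum.comap (algebraMap R D) (PrimeSpectrum.comap (f : D →+* D') y) =
      PrimeSpectrum.comap (algebraMap R D') y := by
  rw [← PrimeSpectrum.comap_comp_apply]
  congr 1
  ext r
  exact f.commutes r

section kernel

variable {k : Type u} [CommRing k] {A : NFᵒᵖ ⥤ CommRingCat.{u}} [GRF k A] {x : PrimeSpectrum (A.obj (op ⟨0⟩))}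
  {c : CoverDatum k A x}

/-- **(U1)** -/
theorem kernelDatum_of (X : OpCpx.{u} (A.obj (op ⟨0⟩))) (amp : X.Amp) (iD : X.D ≃ₐ[A.obj (op ⟨0⟩)] c.Y.D.obj (op ⟨0⟩))
    (I : Type) [Fintype I] [DecidableEq I] [Nonempty I] (E : Gp k) (ι : c.H.O →ₐc[k] E.O) (adm : Adm c.H E ι)
    (K : ℤ → SObj k A E X.Q) (d : ∀ n : ℤ, (K n).Hom (K (n + 1)))
    (e : ∀ n : ℤ, (K n).M.obj ⟨0⟩ ≃ₗ[X.Q] (I → X.deg n))
    (he : ∀ (n : ℤ) (m : (K n).M.obj ⟨0⟩) (i : I), (e (n + 1) ((d n).f ⟨0⟩ m) i : X.K) = X.d (e n m i))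
    (small : ∀ n : ℤ, Small c ι ((iD : X.D →ₐ[A.obj (op ⟨0⟩)] c.Y.D.obj (op ⟨0⟩)).comp X.π) (K n)) :
    Nonempty (KernelDatum c) := by
  have he' : ∀ (n : ℤ) (m : (K n).M.obj ⟨0⟩), e (n + 1) ((d n).f ⟨0⟩ m) = dI X I n (e n m) := fun n m =>
    funext fun i => Subtype.ext (he n m i)
  have hdd : ∀ (n : ℤ) (m : (K n).M.obj ⟨0⟩), (d (n + 1)).f ⟨0⟩ ((d n).f ⟨0⟩ m) = 0 := fun n m => by
    apply (e (n + 1 + 1)).injective
    rw [he', he', dI_dI, map_zero]
  let eR : ∀ n : ℤ, (K n).M.obj ⟨0⟩ ≃ₗ[A.obj (op ⟨0⟩)] (I → X.deg n) := fun n => (e n).restrictScalars _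
  have heR : ∀ (n : ℤ) (m : I → X.deg n), (eR (n + 1)).symm (dI X I n m) = (d n).f ⟨0⟩ ((eR n).symm m) := by
    intro n m
    obtain ⟨m, rfl⟩ := (eR n).surjective m
    have h1 : dI X I n (eR n m) = eR (n + 1) ((d n).f ⟨0⟩ m) := (he' n m).symm
    rw [h1, LinearEquiv.symm_apply_apply, LinearEquiv.symm_apply_apply]
  obtain ⟨y, hy⟩ := c.pt
  have hy' : PrimeSpectrum.comap (algebraMap (A.obj (op ⟨0⟩)) X.D)
      (PrimeSpectrum.comap (iD : X.D →+* c.Y.D.obj (op ⟨0⟩)) y) = x := (comap_algEquiv iD y).trans hy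
  exact ⟨{ E := E
           ι := ι
           adm := adm
           P := X.Q
           ftP := X.finQ
           π := (iD : X.D →ₐ[A.obj (op ⟨0⟩)] c.Y.D.obj (op ⟨0⟩)).comp X.π
           π_surj := iD.surjective.comp X.π_surj
           e := X.e
           K := K
           d := d
           dd := hdd
           bdd := fun n hn => by
             have := subsingleton_deg X hn
             exact (e n).injective.subsingleton
           small := small
           fin := fun n => Module.Finite.equiv (e n).symm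
           tor := torGE_cx_congr (d' := fun n => (d n).f ⟨0⟩) (dd' := hdd) (fun n => (eR n).symm) heR (tor_pi amp I)
           top := not_surjective_congr ((d (-1)).f ⟨0⟩) (dI X I (-1)) (eR (-1)).toLinearMap (eR (-1 + 1))
             (fun m => he' (-1) m) (top_pi amp I x _ hy') }⟩

end kernel

end Groth.Agent.ResProp.EF.K396
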