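import Groth.Agent.ResProp.EF.K396.Num

/-!
# The field `tor` of `OpCpx.Amp` from a `K454.GrObj`

`tor_of_gr`: a total object `G` over any `R`-algebra `P'`, an additive bijection `G.K ≃ X.K` which is `R`-linear and commutes
with the differential and the projections; `TorGE a` of the complex of `G` (restricted to `R`) gives `TorGE a X.cpx`.
-/

set_option autoImplicit false
set_option backward.defeqAttrib.useBackward true
set_option backward.isDefEq.respectTransparency false

universe u v

open CategoryTheory CategoryTheory.Limits HomologicalComplex TensorProduct Opposite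

noncomputable section

namespace Groth.Agent.ResProp.EF.K396

open Groth.Agent.PerfB.RingKFlat K294 K980 PiTwist

section

variable {R : Type u} [CommRing R] (X : OpCpx.{u} R) {P' : Type u} [CommRing P'] [Algebra R P']
  (G : K454.GrObj (ModuleCat.{u} P'))

/-- the complex of `G`, as a complex of `R`-modules -/
abbrev resCx (R : Type u) [CommRing R] {P' : Type u} [CommRing P'] [Algebra R P'] (G : K454.GrObj (ModuleCat.{u} P')) :
    CM R := ((ModuleCat.restrictScalars (algebraMap R P')).mapHomologicalComplex (ComplexShape.up ℤ)).obj G.cx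

theorem πδ_apply (i : ℤ) (v : G.K) : (G.δ i).hom ((G.π i).hom v) = (G.π (i + 1)).hom (G.d.hom v) :=
  congrArg (fun f : G.K ⟶ G.X (i + 1) => f.hom v) (G.π_δ i)

theorem ιπ_apply (i : ℤ) (v : G.K) : (G.ι i).hom ((G.π i).hom v) = (G.p i).hom v :=
  congrArg (fun f : G.K ⟶ G.K => f.hom v) (G.π_ι i)

theorem pι_apply (i : ℤ) (v : G.X i) : (G.p i).hom ((G.ι i).hom v) = (G.ι i).hom v :=
  congrArg (fun f : G.X i ⟶ G.K => f.hom v) (G.ι_p i)

variable {X G} (φ : G.K ≃+ X.K) (hR : ∀ (r : R) (v : G.K), φ (algebraMap R P' r • v) = r • φ v)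
  (hd : ∀ v, φ (G.d.hom v) = X.d (φ v)) (hp : ∀ n v, φ ((G.p n).hom v) = X.prz n (φ v))

/-- `G.X n → X.deg n` -/
def toDeg (n : ℤ) : (ModuleCat.restrictScalars (algebraMap R P')).obj (G.X n) →ₗ[R] X.deg n where
  toFun v := ⟨φ ((G.ι n).hom v), by
    rw [mem_deg, ← hp, pι_apply]⟩
  map_add' v w := Subtype.ext (by
    change φ ((G.ι n).hom ((show G.X n from v) + (show G.X n from w))) = φ ((G.ι n).hom v) + φ ((G.ι n).hom w)
    rw [map_add, map_add])
  map_smul' r v := Subtype.ext (by
    change φ ((G.ι n).hom (algebraMap R P' r • (show G.X n from v))) = r • φ ((G.ι n).hom v)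
    rw [map_smul, hR])

/-- `X.deg n → G.X n` -/
def ofDeg (n : ℤ) : X.deg n →ₗ[R] (ModuleCat.restrictScalars (algebraMap R P')).obj (G.X n) where
  toFun w := (G.π n).hom (φ.symm (w : X.K))
  map_add' v w := by
    change (G.π n).hom (φ.symm ((v : X.K) + w)) = (G.π n).hom (φ.symm (v : X.K)) + (G.π n).hom (φ.symm (w : X.K))
    rw [map_add, map_add]
  map_smul' r w := by
    change (G.π n).hom (φ.symm (r • (w : X.K))) = algebraMap R P' r • (G.π n).hom (φ.symm (w : X.K))
    have h1 : φ.symm (r • (w : X.K)) = algebraMap R P' r • φ.symm (w : X.K) := by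
      apply φ.injective
      rw [AddEquiv.apply_symm_apply, hR, AddEquiv.apply_symm_apply]
    rw [h1, map_smul]

include hd in
theorem toDeg_d (n : ℤ) (v : (ModuleCat.restrictScalars (algebraMap R P')).obj (G.X n)) :
    X.dn n (toDeg φ hR hp n v) = toDeg φ hR hp (n + 1) ((G.δ n).hom v) := Subtype.ext (by
  change X.d (φ ((G.ι n).hom v)) = φ ((G.ι (n + 1)).hom ((G.δ n).hom v))
  rw [G.δ_apply, hd])

include hd in
theorem ofDeg_d (n : ℤ) (w : X.deg n) :
    (G.δ n).hom (ofDeg (P' := P') φ hR n w) = ofDeg (P' := P') φ hR (n + 1) (X.dn n w) := by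
  change (G.δ n).hom ((G.π n).hom (φ.symm (w : X.K))) = (G.π (n + 1)).hom (φ.symm (X.d w))
  have h1 : φ.symm (X.d (w : X.K)) = G.d.hom (φ.symm (w : X.K)) := by
    apply φ.injective
    rw [AddEquiv.apply_symm_apply, hd, AddEquiv.apply_symm_apply]
  rw [h1, πδ_apply]

theorem toDeg_ofDeg (n : ℤ) (w : X.deg n) : toDeg φ hR hp n (ofDeg φ hR n w) = w := Subtype.ext (by
  change φ ((G.ι n).hom ((G.π n).hom (φ.symm (w : X.K)))) = w
  rw [ιπ_apply, hp, AddEquiv.apply_symm_apply]
  exact (mem_deg X).1 w.2)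

include hR hd hp in
/-- **the bridge** -/
theorem tor_of_gr {a : ℤ} (h : TorGE a (resCx R G)) : TorGE a X.cpx := by
  have hdG : ∀ n, (resCx R G).d n (n + 1) = (ModuleCat.restrictScalars (algebraMap R P')).map (G.δ n) := fun n => by
    change (ModuleCat.restrictScalars (algebraMap R P')).map (G.cx.d n (n + 1)) = _
    rw [G.cx_d]
  have hdX : ∀ n, X.cpx.d n (n + 1) = ModuleCat.ofHom ((X.dn n).restrictScalars R) := fun n =>
    CochainComplex.of_d (V := ModuleCat.{u} R) (fun n => ModuleCat.of R (X.deg n))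
      (fun n => ModuleCat.ofHom ((X.dn n).restrictScalars R)) n
  let i : resCx R G ⟶ X.cpx :=
    { f := fun n => (ModuleCat.ofHom (toDeg φ hR hp n) :
        ModuleCat.of R ((ModuleCat.restrictScalars (algebraMap R P')).obj (G.X n)) ⟶ ModuleCat.of R (X.deg n))
      comm' := fun n m hnm => by
        obtain rfl : n + 1 = m := hnm
        rw [hdG, hdX]
        apply ModuleCat.hom_ext
        exact LinearMap.ext fun v => toDeg_d φ hR hd hp n v }
  let p : X.cpx ⟶ resCx R G :=
    { f := fun n => (ModuleCat.ofHom (ofDeg φ hR n) :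
        ModuleCat.of R (X.deg n) ⟶ ModuleCat.of R ((ModuleCat.restrictScalars (algebraMap R P')).obj (G.X n)))
      comm' := fun n m hnm => by
        obtain rfl : n + 1 = m := hnm
        rw [hdG, hdX]
        apply ModuleCat.hom_ext
        exact LinearMap.ext fun w => ofDeg_d φ hR hd n w }
  refine torGE_of_sum (K := resCx R G) (ι := Unit) Finset.univ (fun _ => p) (fun _ => i) ?_ h
  rw [Finset.univ_unique, Finset.sum_singleton]
  apply HomologicalComplex.hom_ext
  intro n
  apply ModuleCat.hom_ext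
  exact LinearMap.ext fun w => toDeg_ofDeg φ hR hp n w

end

end Groth.Agent.ResProp.EF.K396
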