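import Groth.Agent.ResProp.EF.K294.Tor

/-!
# AD4c: finite powers of a complex (`KK ⊗ T` on the chart, `T` finite free, in the form `ι → KK`)

`torGE_of_sum`: if the identity of `K'` is a finite sum of endomorphisms through `K`, then `TorGE a K → TorGE a K'`.
`torGE_pi`: `TorGE` of the complex `n ↦ (ι → M n)`.
`not_surjective_pi`: `¬ Surjective (N ⊗ d)` passes to `ι → M` (`ι` nonempty).
-/

set_option autoImplicit false

universe u v

open CategoryTheory CategoryTheory.Limits HomologicalComplex TensorProduct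

namespace Groth.Agent.ResProp.EF.K396.PiTwist

open Groth.Agent.PerfB.RingKFlat Groth.Agent.ResProp.EF.K294

section

variable {A : Type u} [CommRing A]

/-- If the identity of `K'` is a finite sum of maps which factor through `K`, then `K'` has the Tor bound of `K`. -/
theorem torGE_of_sum {a : ℤ} {K K' : CM A} {ι : Type v} (s : Finset ι) (p : ι → (K' ⟶ K)) (i : ι → (K ⟶ K'))
    (h : ∑ j ∈ s, p j ≫ i j = 𝟙 K') (hK : TorGE a K) : TorGE a K' := by
  intro L hL n hn
  have h1 := hK L hL n hn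
  rw [exactAt_iff_isZero_homology] at h1 ⊢
  rw [IsZero.iff_id_eq_zero]
  have h2 : homologyMap ((tensR L).map (∑ j ∈ s, p j ≫ i j)) n = 𝟙 _ := by
    rw [h, CategoryTheory.Functor.map_id, homologyMap_id]
  have h3 : ∀ j, homologyMap ((tensR L).map (p j ≫ i j)) n = 0 := by
    intro j
    rw [Functor.map_comp, homologyMap_comp, h1.eq_of_tgt (homologyMap ((tensR L).map (p j)) n) 0, zero_comp]
  have h4 : homologyMap ((tensR L).map (∑ j ∈ s, p j ≫ i j)) n = ∑ j ∈ s, homologyMap ((tensR L).map (p j ≫ i j)) n := by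
    have := (tensR L ⋙ homologyFunctor (ModuleCat.{u} A) (ComplexShape.up ℤ) n).map_sum (fun j => p j ≫ i j) s
    exact this
  exact h2.symm.trans (h4.trans (Finset.sum_eq_zero (fun j _ => h3 j)))

/-- the complex with terms `M n` -/
noncomputable abbrev cx (M : ℤ → Type u) [∀ n, AddCommGroup (M n)] [∀ n, Module A (M n)]
    (d : ∀ n : ℤ, M n →ₗ[A] M (n + 1)) (dd : ∀ (n : ℤ) (m : M n), d (n + 1) (d n m) = 0) : CM A :=
  CochainComplex.of (fun n => ModuleCat.of A (M n)) (fun n => ModuleCat.ofHom (d n)) (fun n => by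
    apply ModuleCat.hom_ext
    exact LinearMap.ext (dd n))

theorem cx_d (M : ℤ → Type u) [∀ n, AddCommGroup (M n)] [∀ n, Module A (M n)]
    (d : ∀ n : ℤ, M n →ₗ[A] M (n + 1)) (dd : ∀ (n : ℤ) (m : M n), d (n + 1) (d n m) = 0) (n : ℤ) :
    (cx M d dd).d n (n + 1) = ModuleCat.ofHom (d n) := by
  exact CochainComplex.of_d (V := ModuleCat.{u} A) (fun n => ModuleCat.of A (M n)) (fun n => ModuleCat.ofHom (d n)) n

/-- a morphism between complexes of the form `cx` -/
noncomputable def cxHom {M M' : ℤ → Type u} [∀ n, AddCommGroup (M n)] [∀ n, Module A (M n)]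
    [∀ n, AddCommGroup (M' n)] [∀ n, Module A (M' n)]
    {d : ∀ n : ℤ, M n →ₗ[A] M (n + 1)} {dd : ∀ (n : ℤ) (m : M n), d (n + 1) (d n m) = 0}
    {d' : ∀ n : ℤ, M' n →ₗ[A] M' (n + 1)} {dd' : ∀ (n : ℤ) (m : M' n), d' (n + 1) (d' n m) = 0}
    (f : ∀ n : ℤ, M n →ₗ[A] M' n) (hf : ∀ (n : ℤ) (m : M n), f (n + 1) (d n m) = d' n (f n m)) :
    cx M d dd ⟶ cx M' d' dd' :=
  CochainComplex.ofHom (fun n => ModuleCat.ofHom (f n)) (fun n => by
    rw [cx_d, cx_d]
    apply ModuleCat.hom_ext
    exact LinearMap.ext (fun m => (hf n m).symm))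

/-- `TorGE` of a finite power. -/
theorem torGE_pi {a : ℤ} (ι : Type) [Fintype ι] [DecidableEq ι] (M : ℤ → Type u) [∀ n, AddCommGroup (M n)]
    [∀ n, Module A (M n)] (d : ∀ n : ℤ, M n →ₗ[A] M (n + 1)) (dd : ∀ (n : ℤ) (m : M n), d (n + 1) (d n m) = 0)
    (h : TorGE a (cx M d dd)) :
    TorGE a (cx (fun n => ι → M n) (fun n => (d n).compLeft ι) (fun n m => funext fun j => dd n (m j))) := by
  refine torGE_of_sum (K := cx M d dd) Finset.univ
    (fun j => cxHom (fun n => LinearMap.proj j) (fun n m => rfl))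
    (fun j => cxHom (fun n => LinearMap.single A (fun _ : ι => M n) j) (fun n m => ?_)) ?_ h
  · funext l
    by_cases hl : l = j
    · subst hl
      simp
    · simp [Pi.single_eq_of_ne hl]
  · apply HomologicalComplex.hom_ext
    intro n
    refine ((HomologicalComplex.eval (ModuleCat.{u} A) (ComplexShape.up ℤ) n).map_sum _ Finset.univ).trans ?_
    apply ModuleCat.hom_ext
    rw [ModuleCat.hom_sum]
    refine LinearMap.ext fun m => ?_
    rw [LinearMap.sum_apply]
    exact Finset.univ_sum_single m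

/-- `¬ Surjective (N ⊗ d)` passes to finite powers. -/
theorem not_surjective_pi {ι : Type*} [DecidableEq ι] [Nonempty ι] {N M M' : Type*} [AddCommGroup N] [Module A N]
    [AddCommGroup M] [Module A M] [AddCommGroup M'] [Module A M'] (d : M →ₗ[A] M')
    (h : ¬ Function.Surjective (LinearMap.lTensor N d)) :
    ¬ Function.Surjective (LinearMap.lTensor N (d.compLeft ι)) := by
  intro h1
  apply h
  intro y
  obtain ⟨j⟩ := ‹Nonempty ι›
  obtain ⟨x, hx⟩ := h1 (LinearMap.lTensor N (LinearMap.single A (fun _ : ι => M') j) y)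
  refine ⟨LinearMap.lTensor N (LinearMap.proj j) x, ?_⟩
  have e1 : d ∘ₗ (LinearMap.proj j : (ι → M) →ₗ[A] M) = (LinearMap.proj j : (ι → M') →ₗ[A] M') ∘ₗ d.compLeft ι := rfl
  have e2 : (LinearMap.proj j : (ι → M') →ₗ[A] M') ∘ₗ LinearMap.single A (fun _ : ι => M') j = LinearMap.id := by
    ext m
    simp
  rw [← LinearMap.comp_apply, ← LinearMap.lTensor_comp, e1, LinearMap.lTensor_comp, LinearMap.comp_apply, hx,
    ← LinearMap.comp_apply, ← LinearMap.lTensor_comp, e2, LinearMap.lTensor_id, LinearMap.id_apply]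

end

end Groth.Agent.ResProp.EF.K396.PiTwist
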