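import Mathlib.AlgebraicGeometry.Sites.Fpqc
import Mathlib.AlgebraicGeometry.QuasiAffine
import Mathlib.RingTheory.RingHom.FaithfullyFlat

/-!
# From a quasi-affine fpqc quotient to rings

`π : U ⟶ Y` affine, flat, surjective, `Y` quasi-affine, `IsPullback s t π π`.
-/

set_option autoImplicit false
universe u

open CategoryTheory CategoryTheory.Limits AlgebraicGeometry TopologicalSpace

namespace Groth.Agent.ResProp.EF.K396.QuotRing

/-- the polynomial ring in one variable -/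
noncomputable abbrev A1 : CommRingCat.{u} := CommRingCat.of (Polynomial (ULift.{u} ℤ))

/-- the ring map to `B` with value `x` at the variable -/
noncomputable def ev (B : CommRingCat.{u}) (x : B) : A1.{u} ⟶ B :=
  CommRingCat.ofHom (Polynomial.eval₂RingHom ((Int.castRingHom B).comp ULift.ringEquiv.toRingHom) x)

theorem ev_X (B : CommRingCat.{u}) (x : B) : (ev B x).hom Polynomial.X = x := by
  simp [ev]

theorem A1_ext {B : CommRingCat.{u}} (f g : A1.{u} ⟶ B) (h : f.hom Polynomial.X = g.hom Polynomial.X) :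
    f = g := by
  apply CommRingCat.hom_ext
  apply Polynomial.ringHom_ext'
  · have h1 : ∀ e : ULift.{u} ℤ →+* B, e = (Int.castRingHom B).comp ULift.ringEquiv.toRingHom := by
      intro e
      have h2 : e.comp (ULift.ringEquiv (R := ℤ)).symm.toRingHom = Int.castRingHom B :=
        RingHom.ext_int _ _
      rw [← h2, RingHom.comp_assoc]
      ext x
      simp
    rw [h1 (f.hom.comp Polynomial.C), h1 (g.hom.comp Polynomial.C)]
  · exact h

/-- the morphism to the affine line given by a function -/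
noncomputable def toA1 {U : Scheme.{u}} (x : Γ(U, ⊤)) : U ⟶ Spec A1.{u} :=
  U.toSpecΓ ≫ Spec.map (ev Γ(U, ⊤) x)

/-- the function given by a morphism to the affine line -/
noncomputable def ofA1 {U : Scheme.{u}} (f : U ⟶ Spec A1.{u}) : Γ(U, ⊤) :=
  f.appTop ((Scheme.ΓSpecIso A1.{u}).inv.hom (Polynomial.X : Polynomial (ULift.{u} ℤ)))

theorem ofA1_toA1 {U : Scheme.{u}} (x : Γ(U, ⊤)) : ofA1 (toA1 x) = x := by
  have h : (Scheme.ΓSpecIso A1.{u}).inv ≫ (toA1 x).appTop = ev Γ(U, ⊤) x := by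
    rw [toA1, Scheme.Hom.comp_appTop, ← Category.assoc, ← Scheme.ΓSpecIso_inv_naturality, Scheme.toSpecΓ_appTop,
      Category.assoc, Iso.inv_hom_id, Category.comp_id]
  have h2 := congrArg (fun f => f.hom (Polynomial.X : Polynomial (ULift.{u} ℤ))) h
  exact h2.trans (ev_X _ x)

theorem ofA1_comp {U V : Scheme.{u}} (g : V ⟶ U) (f : U ⟶ Spec A1.{u}) : ofA1 (g ≫ f) = g.appTop (ofA1 f) := by
  simp only [ofA1, Scheme.Hom.comp_appTop]
  rfl

theorem comp_toA1 {U V : Scheme.{u}} (g : V ⟶ U) (x : Γ(U, ⊤)) : g ≫ toA1 x = toA1 (g.appTop x) := by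
  rw [toA1, toA1, ← Category.assoc, Scheme.toSpecΓ_naturality, Category.assoc, ← Spec.map_comp]
  congr 2
  apply A1_ext
  have h1 := ev_X Γ(U, ⊤) x
  have h2 := ev_X Γ(V, ⊤) (g.appTop x)
  rw [h2]
  exact congrArg g.appTop h1

/-- Global functions form a sheaf for the fpqc topology (one covering morphism). -/
theorem exists_unique_appTop {R U Y : Scheme.{u}} (π : U ⟶ Y) (s t : R ⟶ U) (h : IsPullback s t π π)
    [QuasiCompact π] [Surjective π] [Flat π] (x : Γ(U, ⊤)) (hx : s.appTop x = t.appTop x) :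
    ∃ y : Γ(Y, ⊤), π.appTop y = x := by
  have h1 : s ≫ toA1 x = t ≫ toA1 x := by rw [comp_toA1, comp_toA1, hx]
  let ψ : Y ⟶ Spec A1.{u} := EffectiveEpi.desc π (toA1 x) (fun g₁ g₂ hg => by
    have e1 : h.lift g₁ g₂ hg ≫ s = g₁ := h.lift_fst _ _ _
    have e2 : h.lift g₁ g₂ hg ≫ t = g₂ := h.lift_snd _ _ _
    calc g₁ ≫ toA1 x = (h.lift g₁ g₂ hg ≫ s) ≫ toA1 x := by rw [e1]
      _ = (h.lift g₁ g₂ hg ≫ t) ≫ toA1 x := by rw [Category.assoc, Category.assoc, h1]
      _ = g₂ ≫ toA1 x := by rw [e2])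
  have h2 : π ≫ ψ = toA1 x := EffectiveEpi.fac _ _ _
  exact ⟨ofA1 ψ, by rw [← ofA1_comp, h2, ofA1_toA1]⟩

theorem appTop_injective {U Y : Scheme.{u}} (π : U ⟶ Y) [QuasiCompact π] [Surjective π] [Flat π] :
    Function.Injective π.appTop := by
  intro x y hxy
  have h1 : π ≫ toA1 x = π ≫ toA1 y := by rw [comp_toA1, comp_toA1]; exact congrArg toA1 hxy
  rw [cancel_epi] at h1
  rw [← ofA1_toA1 x, ← ofA1_toA1 y, h1]

/-- `π.appLE V (π ⁻¹ᵁ V)` is faithfully flat for `V` affine, `π` affine, flat and surjective. -/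
theorem faithfullyFlat_app {U Y : Scheme.{u}} (π : U ⟶ Y) [IsAffineHom π] [Surjective π] [Flat π]
    (V : Y.Opens) (hV : IsAffineOpen V) : (π.appLE V (π ⁻¹ᵁ V) le_rfl).hom.FaithfullyFlat := by
  have h1 : IsAffine V.toScheme := hV
  have h2 : IsAffine (π ⁻¹ᵁ V).toScheme := hV.preimage π
  have h3 : Flat (π.resLE V (π ⁻¹ᵁ V) le_rfl) := by
    rw [Scheme.Hom.resLE_eq_morphismRestrict]
    infer_instance
  have h4 : Surjective (π.resLE V (π ⁻¹ᵁ V) le_rfl) := by
    rw [Scheme.Hom.resLE_eq_morphismRestrict]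
    exact MorphismProperty.of_isPullback (P := @Surjective) (isPullback_morphismRestrict π V).flip inferInstance
  have h5 := (Flat.flat_and_surjective_iff_faithfullyFlat_of_isAffine (f := π.resLE V (π ⁻¹ᵁ V) le_rfl)).1 ⟨h3, h4⟩
  have h6 : (RingHom.toMorphismProperty RingHom.FaithfullyFlat).RespectsIso :=
    RingHom.toMorphismProperty_respectsIso_iff.mp RingHom.FaithfullyFlat.respectsIso
  exact ((MorphismProperty.arrow_mk_iso_iff (RingHom.toMorphismProperty RingHom.FaithfullyFlat)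
    (arrowResLEAppIso π V (π ⁻¹ᵁ V) le_rfl)).1 h5)

/-- The square of rings over an affine open of the quotient is cocartesian. -/
theorem isPushout_app {R U Y : Scheme.{u}} (π : U ⟶ Y) (s t : R ⟶ U) (h : IsPullback s t π π) [IsAffineHom π]
    (V : Y.Opens) (hV : IsAffineOpen V) (W : R.Opens) (hs : W = s ⁻¹ᵁ (π ⁻¹ᵁ V)) (ht : W = t ⁻¹ᵁ (π ⁻¹ᵁ V)) :
    IsPushout (π.appLE V (π ⁻¹ᵁ V) le_rfl) (π.appLE V (π ⁻¹ᵁ V) le_rfl)
      (s.appLE (π ⁻¹ᵁ V) W hs.le) (t.appLE (π ⁻¹ᵁ V) W ht.le) := by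
  have h1 : W = s ⁻¹ᵁ (π ⁻¹ᵁ V) ⊓ t ⁻¹ᵁ (π ⁻¹ᵁ V) := by rw [← hs, ← ht, inf_idem]
  exact (isIso_pushoutSection_iff h le_rfl le_rfl h1).1
    (isIso_pushoutSection_of_isAffineOpen h le_rfl le_rfl h1 hV (hV.preimage π) (hV.preimage π))

/-- `D_f / C_f` is Galois: `f` is invariant, `U_f` is affine and `Γ(U_f)` is faithfully flat over a ring `C` (the ring of
functions of the affine open `Y_g` of the quotient) with `Γ(U_f) ⊗_C Γ(U_f) = Γ(R_f)` through `s`, `t`; `C` is the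
localization at `f` of the ring of all invariant global functions. -/
def GaloisAt {R U : Scheme.{u}} (s t : R ⟶ U) (f : Γ(U, ⊤)) : Prop :=
  s.appTop f = t.appTop f ∧ IsAffineOpen (U.basicOpen f) ∧
    ∃ (W : R.Opens) (hs : W = s ⁻¹ᵁ (U.basicOpen f)) (ht : W = t ⁻¹ᵁ (U.basicOpen f))
      (C : CommRingCat.{u}) (c : C ⟶ Γ(U, U.basicOpen f)),
      c.hom.FaithfullyFlat ∧
      IsPushout c c (s.appLE (U.basicOpen f) W hs.le) (t.appLE (U.basicOpen f) W ht.le) ∧
      (∀ x : C, ∃ (n : ℕ) (y : Γ(U, ⊤)), s.appTop y = t.appTop y ∧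
        c x * (U.presheaf.map (homOfLE (U.basicOpen_le f)).op f) ^ n =
          U.presheaf.map (homOfLE (U.basicOpen_le f)).op y) ∧
      (∀ y : Γ(U, ⊤), s.appTop y = t.appTop y →
        U.presheaf.map (homOfLE (U.basicOpen_le f)).op y ∈ Set.range c)

theorem galoisAt {R U Y : Scheme.{u}} (π : U ⟶ Y) (s t : R ⟶ U) (h : IsPullback s t π π) [IsAffineHom π]
    [Surjective π] [Flat π] [CompactSpace Y] [QuasiSeparatedSpace Y] (g : Γ(Y, ⊤)) (hg : IsAffineOpen (Y.basicOpen g)) :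
    GaloisAt s t (π.appTop g) := by
  have e : π ⁻¹ᵁ (Y.basicOpen g) = U.basicOpen (π.appTop g) := Scheme.preimage_basicOpen_top π g
  have hinv : ∀ y : Γ(Y, ⊤), s.appTop (π.appTop y) = t.appTop (π.appTop y) := by
    intro y
    have h1 : (s ≫ π).appTop = (t ≫ π).appTop := by rw [h.w]
    rw [Scheme.Hom.comp_appTop, Scheme.Hom.comp_appTop] at h1
    exact congrArg (fun f => f.hom y) h1
  have hst : s ⁻¹ᵁ (π ⁻¹ᵁ (Y.basicOpen g)) = t ⁻¹ᵁ (π ⁻¹ᵁ (Y.basicOpen g)) := by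
    rw [← Scheme.Hom.comp_preimage, ← Scheme.Hom.comp_preimage, h.w]
  refine ⟨hinv g, e ▸ hg.preimage π, s ⁻¹ᵁ (U.basicOpen (π.appTop g)), rfl, by rw [← e, hst],
    Γ(Y, Y.basicOpen g), π.appLE (Y.basicOpen g) (U.basicOpen (π.appTop g)) e.ge, ?_, ?_, ?_, ?_⟩
  · have := faithfullyFlat_app π (Y.basicOpen g) hg
    revert this
    generalize_proofs h1 h2
    revert h2
    rw [← e]
    intro h2 h3
    exact h3
  · have := isPushout_app π s t h (Y.basicOpen g) hg (s ⁻¹ᵁ (π ⁻¹ᵁ (Y.basicOpen g))) rfl hst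
    revert this
    generalize_proofs h1 h2 h3 h4 h5 h6
    revert h4 h5 h6
    rw [← e]
    intro h4 h5 h6 h7
    exact h7
  · intro x
    have h1 := isLocalization_basicOpen_of_qcqs isCompact_univ isQuasiSeparated_univ g
    obtain ⟨⟨y, ⟨_, n, rfl⟩⟩, hy⟩ := IsLocalization.surj (Submonoid.powers g) x
    refine ⟨n, π.appTop y, hinv y, ?_⟩
    have key : ∀ z : Γ(Y, ⊤), π.appLE (Y.basicOpen g) (U.basicOpen (π.appTop g)) e.ge
        (Y.presheaf.map (homOfLE (Y.basicOpen_le g)).op z) =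
          U.presheaf.map (homOfLE (U.basicOpen_le (π.appTop g))).op (π.appTop z) := by
      intro z
      rw [← CommRingCat.comp_apply, ← CommRingCat.comp_apply]
      congr 2
      rw [Scheme.Hom.map_appLE]
      rfl
    have hy' : x * Y.presheaf.map (homOfLE (Y.basicOpen_le g)).op g ^ n =
        Y.presheaf.map (homOfLE (Y.basicOpen_le g)).op y := by
      rw [← map_pow]
      exact hy
    rw [← key, ← key, ← hy', map_mul, map_pow]
  · intro y hy
    obtain ⟨z, rfl⟩ := exists_unique_appTop π s t h y hy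
    refine ⟨Y.presheaf.map (homOfLE (Y.basicOpen_le g)).op z, ?_⟩
    rw [← CommRingCat.comp_apply, ← CommRingCat.comp_apply]
    congr 2
    rw [Scheme.Hom.map_appLE]
    rfl

/-- **The quasi-affine quotient in rings**: finitely many invariant functions `f i` on `U` such that the `U_(f i)` are
affine and cover `U`, and `Γ(U_(f i))` is Galois over the localized ring of invariants. -/
theorem exists_galois_cover {R U Y : Scheme.{u}} (π : U ⟶ Y) (s t : R ⟶ U) (h : IsPullback s t π π) [IsAffineHom π]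
    [Surjective π] [Flat π] [Y.IsQuasiAffine] :
    ∃ (n : ℕ) (f : Fin n → Γ(U, ⊤)), (⨆ i, U.basicOpen (f i)) = ⊤ ∧ ∀ i, GaloisAt s t (f i) := by
  have hb := Scheme.IsQuasiAffine.isBasis_basicOpen Y
  have h1 : ∀ y : Y, ∃ g : Γ(Y, ⊤), IsAffineOpen (Y.basicOpen g) ∧ y ∈ Y.basicOpen g := by
    intro y
    obtain ⟨_, ⟨_, ⟨g, hg, rfl⟩, rfl⟩, hy, -⟩ :=
      (hb : Opens.IsBasis _).exists_subset_of_mem_open (Set.mem_univ y) isOpen_univ
    exact ⟨g, hg, hy⟩
  choose g hg hy using h1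
  obtain ⟨T, hT⟩ := (isCompact_univ (X := Y)).elim_finite_subcover (fun y : Y => ((Y.basicOpen (g y) : Y.Opens) : Set Y))
    (fun y => (Y.basicOpen (g y)).isOpen) (fun y _ => Set.mem_iUnion.2 ⟨y, hy y⟩)
  refine ⟨T.card, fun i => π.appTop (g (T.equivFin.symm i)), ?_, fun i => galoisAt π s t h _ (hg _)⟩
  rw [eq_top_iff]
  rintro x -
  have hx := hT (Set.mem_univ (π x))
  rw [Set.mem_iUnion₂] at hx
  obtain ⟨y, hyT, hy⟩ := hx
  rw [Opens.mem_iSup]
  refine ⟨T.equivFin ⟨y, hyT⟩, ?_⟩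
  rw [← Scheme.preimage_basicOpen_top, Equiv.symm_apply_apply]
  exact hy

end Groth.Agent.ResProp.EF.K396.QuotRing
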