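import Groth.Agent.ResProp.EF.K396.PiTwist
import Groth.Agent.ResProp.EF.K980.Alg
import Groth.Agent.ResProp.EF.K454.GrCx

/-!
# AD4c: the terms of the complex of an `OpCpx`

`pz X n` (`n : ℤ`): the projection of `X.K` to degree `n` (zero outside `[-e, 0]`), `Dg X n` its range, `dn X n` the
differential, `cxR X` the complex of `R`-modules (in the form of `PiTwist.cx` = `Arch.chartCx`).
`AmpTop X`: Tor-amplitude `≥ -e` and the augmentation to `D`.
`torGE_cxR`: `AmpTop.tor` from a `K454.GrObj` with the same total module.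
-/

set_option autoImplicit false

universe u v

open CategoryTheory CategoryTheory.Limits HomologicalComplex TensorProduct

namespace Groth.Agent.ResProp.EF.K396

open Groth.Agent.PerfB.RingKFlat K294 K980 PiTwist

section transport

variable {A : Type u} [CommRing A]

/-- transport of `TorGE` along isomorphic complexes in the form `cx` -/
theorem torGE_cx_congr {a : ℤ} {M M' : ℤ → Type u} [∀ n, AddCommGroup (M n)] [∀ n, Module A (M n)]
    [∀ n, AddCommGroup (M' n)] [∀ n, Module A (M' n)]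
    {d : ∀ n : ℤ, M n →ₗ[A] M (n + 1)} {dd : ∀ (n : ℤ) (m : M n), d (n + 1) (d n m) = 0}
    {d' : ∀ n : ℤ, M' n →ₗ[A] M' (n + 1)} {dd' : ∀ (n : ℤ) (m : M' n), d' (n + 1) (d' n m) = 0}
    (e : ∀ n, M n ≃ₗ[A] M' n) (he : ∀ (n : ℤ) (m : M n), e (n + 1) (d n m) = d' n (e n m))
    (h : TorGE a (cx M d dd)) : TorGE a (cx M' d' dd') := by
  refine torGE_of_sum (K := cx M d dd) (ι := Unit) Finset.univ
    (fun _ => cxHom (fun n => (e n).symm.toLinearMap) (fun n m => ?_))
    (fun _ => cxHom (fun n => (e n).toLinearMap) he) ?_ h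
  · apply (e (n + 1)).injective
    change e (n + 1) ((e (n + 1)).symm (d' n m)) = e (n + 1) (d n ((e n).symm m))
    rw [he, LinearEquiv.apply_symm_apply, LinearEquiv.apply_symm_apply]
  · rw [Finset.univ_unique, Finset.sum_singleton]
    apply HomologicalComplex.hom_ext
    intro n
    apply ModuleCat.hom_ext
    exact LinearMap.ext fun m => (e n).apply_symm_apply m

/-- transport of the non-surjectivity -/
theorem not_surjective_congr {N M M' L L' : Type*} [AddCommGroup N] [Module A N] [AddCommGroup M] [Module A M]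
    [AddCommGroup M'] [Module A M'] [AddCommGroup L] [Module A L] [AddCommGroup L'] [Module A L']
    (d : M →ₗ[A] M') (d' : L →ₗ[A] L') (e : M →ₗ[A] L) (e' : M' ≃ₗ[A] L')
    (he : ∀ m, e' (d m) = d' (e m)) (h : ¬ Function.Surjective (LinearMap.lTensor N d')) :
    ¬ Function.Surjective (LinearMap.lTensor N d) := by
  intro h1
  apply h
  intro y
  obtain ⟨x, hx⟩ := h1 (LinearMap.lTensor N e'.symm.toLinearMap y)
  refine ⟨LinearMap.lTensor N e x, ?_⟩
  have e1 : d' ∘ₗ e = e'.toLinearMap ∘ₗ d := LinearMap.ext fun m => (he m).symm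
  rw [← LinearMap.comp_apply, ← LinearMap.lTensor_comp, e1, LinearMap.lTensor_comp, LinearMap.comp_apply, hx,
    ← LinearMap.comp_apply, ← LinearMap.lTensor_comp]
  have e2 : e'.toLinearMap ∘ₗ e'.symm.toLinearMap = LinearMap.id := LinearMap.ext fun m => e'.apply_symm_apply m
  rw [e2, LinearMap.lTensor_id, LinearMap.id_apply]

end transport

section terms

variable {R : Type u} [CommRing R] (X : OpCpx.{u} R)

/-- the projection of the total module to degree `n`, zero outside `[-e, 0]` -/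
noncomputable def pz (n : ℤ) : X.K →ₗ[X.Q] X.K :=
  if h : n ≤ 0 ∧ (-n).toNat < X.e + 1 then X.pr ⟨(-n).toNat, h.2⟩ else 0

theorem pz_neg (i : Fin (X.e + 1)) : pz X (-(i : ℤ)) = X.pr i := by
  have h : (-(i : ℤ)) ≤ 0 ∧ (-(-(i : ℤ))).toNat < X.e + 1 := by
    constructor
    · omega
    · rw [neg_neg, Int.toNat_natCast]
      exact i.2
  rw [pz, dif_pos h]
  congr 1
  apply Fin.ext
  change (-(-(i : ℤ))).toNat = (i : ℕ)
  rw [neg_neg, Int.toNat_natCast]

theorem pz_zero : pz X 0 = X.pr 0 := by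
  have := pz_neg X 0
  simpa using this

theorem pz_out {n : ℤ} (h : n < -X.e ∨ 0 < n) : pz X n = 0 := by
  rw [pz, dif_neg]
  rintro ⟨h1, h2⟩
  omega

theorem pz_cases (n : ℤ) : (∃ i : Fin (X.e + 1), n = -(i : ℤ)) ∨ (n < -X.e ∨ 0 < n) := by
  by_cases h : n ≤ 0 ∧ (-n).toNat < X.e + 1
  · refine Or.inl ⟨⟨(-n).toNat, h.2⟩, ?_⟩
    change n = -((-n).toNat : ℤ)
    omega
  · right
    omega

theorem pz_idem (n : ℤ) (v : X.K) : pz X n (pz X n v) = pz X n v := by
  rcases pz_cases X n with ⟨i, rfl⟩ | h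
  · rw [pz_neg]
    exact LinearMap.congr_fun (X.pr_idem i) v
  · rw [pz_out X h]
    rfl

theorem pz_orth {n m : ℤ} (hnm : n ≠ m) (v : X.K) : pz X n (pz X m v) = 0 := by
  rcases pz_cases X n with ⟨i, rfl⟩ | h
  · rcases pz_cases X m with ⟨j, rfl⟩ | h'
    · rw [pz_neg, pz_neg]
      refine LinearMap.congr_fun (X.pr_orth i j ?_) v
      rintro rfl
      exact hnm rfl
    · rw [pz_out X h', LinearMap.zero_apply, map_zero]
  · rw [pz_out X h, LinearMap.zero_apply]

theorem pr_last_d (v : X.K) : X.pr (Fin.last X.e) (X.d v) = 0 := by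
  have h1 : X.d v = ∑ i : Fin X.e, X.pr i.castSucc (X.d v) := by
    conv_lhs => rw [← X.pr_sum v, map_sum, Fin.sum_univ_succ, X.d_pr_zero, zero_add]
    exact Finset.sum_congr rfl fun i _ => X.d_pr i v
  rw [h1, map_sum]
  refine Finset.sum_eq_zero fun i _ => ?_
  exact LinearMap.congr_fun (X.pr_orth (Fin.last X.e) i.castSucc (Fin.castSucc_lt_last i).ne') (X.d v)

theorem d_pz (n : ℤ) (v : X.K) : X.d (pz X n v) = pz X (n + 1) (X.d v) := by
  rcases pz_cases X n with ⟨i, rfl⟩ | h | h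
  · rw [pz_neg]
    revert i
    intro i
    induction i using Fin.cases with
    | zero =>
      rw [X.d_pr_zero, pz_out X (Or.inr (by simp))]
      rfl
    | succ j =>
      have h1 : -((j.succ : Fin (X.e + 1)) : ℤ) + 1 = -((j.castSucc : Fin (X.e + 1)) : ℤ) := by
        rw [Fin.val_succ, Fin.val_castSucc]
        push_cast
        ring
      rw [X.d_pr, h1, pz_neg]
  · rw [pz_out X (Or.inl h), LinearMap.zero_apply, map_zero]
    rcases lt_or_eq_of_le (show n + 1 ≤ -X.e by omega) with h1 | h1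
    · rw [pz_out X (Or.inl h1), LinearMap.zero_apply]
    · have h2 : pz X (n + 1) = X.pr (Fin.last X.e) := by
        rw [h1]
        have := pz_neg X (Fin.last X.e)
        rwa [Fin.val_last] at this
      rw [h2, pr_last_d]
  · rw [pz_out X (Or.inr h), pz_out X (Or.inr (by omega)), LinearMap.zero_apply, map_zero, LinearMap.zero_apply]

/-- the part of degree `n` -/
noncomputable def Dg (n : ℤ) : Submodule X.Q X.K := LinearMap.range (pz X n)

theorem mem_Dg {n : ℤ} {v : X.K} : v ∈ Dg X n ↔ pz X n v = v := by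
  constructor
  · rintro ⟨w, rfl⟩
    exact pz_idem X n w
  · intro h
    exact ⟨v, h⟩

/-- the differential in degree `n` -/
noncomputable def dn (n : ℤ) : Dg X n →ₗ[X.Q] Dg X (n + 1) :=
  X.d.restrict fun v hv => by
    rw [mem_Dg] at hv ⊢
    rw [← d_pz, hv]

@[simp] theorem dn_val (n : ℤ) (v : Dg X n) : (dn X n v : X.K) = X.d v := rfl

theorem dn_dn (n : ℤ) (v : Dg X n) : dn X (n + 1) (dn X n v) = 0 := Subtype.ext (X.d_d v)

/-- the differential, `R`-linear -/
noncomputable def dnR (n : ℤ) : Dg X n →ₗ[R] Dg X (n + 1) := (dn X n).restrictScalars R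

@[simp] theorem dnR_val (n : ℤ) (v : Dg X n) : (dnR X n v : X.K) = X.d v := rfl

theorem dnR_dnR (n : ℤ) (v : Dg X n) : dnR X (n + 1) (dnR X n v) = 0 := Subtype.ext (X.d_d v)

theorem subsingleton_Dg {n : ℤ} (h : n < -X.e ∨ 0 < n) : Subsingleton (Dg X n) := by
  refine ⟨fun v w => Subtype.ext ?_⟩
  rw [← (mem_Dg X).1 v.2, ← (mem_Dg X).1 w.2, pz_out X h]
  rfl

instance finite_Dg (n : ℤ) : Module.Finite X.Q (Dg X n) := by
  have := X.finK
  rw [Dg]
  infer_instance

/-- the complex of `R`-modules -/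
noncomputable abbrev cxR : CM R := cx (fun n => Dg X n) (dnR X) (dnR_dnR X)

/-- **What the producer still owes**: Tor-amplitude `≥ -e` over `R`, and an augmentation `K → D` which kills the boundaries
and hits `1` in degree `0`. -/
structure AmpTop : Prop where
  tor : TorGE (-(X.e : ℤ)) (cxR X)
  aug : ∃ a : X.K →ₗ[R] X.D, (∀ v, a (X.d v) = 0) ∧ ∃ v, X.pr 0 v = v ∧ a v = 1

end terms

section top

variable {R : Type u} [CommRing R] (X : OpCpx.{u} R)

/-- `κ(x) ⊗ D ≠ 0` for `x` in the image of `Spec D` -/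
theorem one_tmul_one_ne_zero {D : Type*} [CommRing D] [Algebra R D] (x : PrimeSpectrum R) (y : PrimeSpectrum D)
    (hy : PrimeSpectrum.comap (algebraMap R D) y = x) :
    (1 : x.asIdeal.ResidueField) ⊗ₜ[R] (1 : D) ≠ 0 := by
  subst hy
  intro h
  have hc : (PrimeSpectrum.comap (algebraMap R D) y).asIdeal = y.asIdeal.comap (algebraMap R D) := rfl
  let f : (PrimeSpectrum.comap (algebraMap R D) y).asIdeal.ResidueField →ₐ[R] y.asIdeal.ResidueField :=
    Ideal.ResidueField.mapₐ _ y.asIdeal (Algebra.ofId R D) rfl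
  let g : D →ₐ[R] y.asIdeal.ResidueField := IsScalarTower.toAlgHom R D _
  have h1 := congrArg (Algebra.TensorProduct.lift f g (fun _ _ => Commute.all _ _)) h
  rw [Algebra.TensorProduct.lift_tmul, map_one, map_one, map_zero, mul_one] at h1
  exact one_ne_zero h1

theorem AmpTop.top (h : AmpTop X) (x : PrimeSpectrum R) (y : PrimeSpectrum X.D)
    (hy : PrimeSpectrum.comap (algebraMap R X.D) y = x) :
    ¬ Function.Surjective (LinearMap.lTensor x.asIdeal.ResidueField (dnR X (-1))) := by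
  intro hs
  obtain ⟨a, ha, v, hv, hv1⟩ := h.aug
  let a0 : Dg X (-1 + 1) →ₗ[R] X.D := a ∘ₗ ((Dg X (-1 + 1)).subtype.restrictScalars R)
  have h1 : a0 ∘ₗ dnR X (-1) = 0 := LinearMap.ext fun w => ha w
  have h2 : LinearMap.lTensor x.asIdeal.ResidueField a0 = 0 := by
    have h3 : LinearMap.lTensor x.asIdeal.ResidueField a0 ∘ₗ LinearMap.lTensor x.asIdeal.ResidueField (dnR X (-1)) =
        0 := by
      rw [← LinearMap.lTensor_comp, h1, LinearMap.lTensor_zero]
    refine LinearMap.ext fun z => ?_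
    obtain ⟨z, rfl⟩ := hs z
    exact LinearMap.congr_fun h3 z
  have hv0 : v ∈ Dg X (-1 + 1) := by
    rw [mem_Dg]
    have : (-1 + 1 : ℤ) = 0 := by norm_num
    rw [this, pz_zero]
    exact hv
  have h4 := LinearMap.congr_fun h2 ((1 : x.asIdeal.ResidueField) ⊗ₜ[R] (⟨v, hv0⟩ : Dg X (-1 + 1)))
  rw [LinearMap.lTensor_tmul] at h4
  have h5 : a0 ⟨v, hv0⟩ = 1 := hv1
  rw [h5] at h4
  exact one_tmul_one_ne_zero x y hy h4

end top

end Groth.Agent.ResProp.EF.K396
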